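import Cfsg.Agent.Lib.helper15.UD.Defs

/-! Project UD: small general facts (components in a decomposition). -/

set_option autoImplicit false

namespace Cfsg.Agent.Lib.helper15.UD

open Matrix

variable {n : ℕ} {F : Type*} [Field F]

/-- every vector is a sum of components -/
theorem comp_exists {t : ℕ} (D : Fin t → Submodule F (Fin n → F)) (hsup : iSup D = ⊤)
    (x : Fin n → F) : ∃ c : Fin t → (Fin n → F), (∀ i, c i ∈ D i) ∧ ∑ i, c i = x := by
  classical
  have hx : x ∈ ⨆ i, D i := by
    rw [hsup]
    exact Submodule.mem_top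
  refine Submodule.iSup_induction D
    (motive := fun x => ∃ c : Fin t → (Fin n → F), (∀ i, c i ∈ D i) ∧ ∑ i, c i = x)
    hx ?_ ?_ ?_
  · intro i x hx
    refine ⟨Pi.single i x, ?_, ?_⟩
    · intro j
      by_cases hji : j = i
      · subst hji
        rw [Pi.single_eq_same]
        exact hx
      · rw [Pi.single_eq_of_ne hji]
        exact (D j).zero_mem
    · rw [Finset.sum_pi_single']
      simp
  · exact ⟨0, fun i => (D i).zero_mem, by simp⟩
  · rintro x y ⟨c, hc, hcx⟩ ⟨c', hc', hcy⟩
    refine ⟨c + c', fun i => (D i).add_mem (hc i) (hc' i), ?_⟩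
    rw [← hcx, ← hcy, ← Finset.sum_add_distrib]
    rfl

/-- a sum of components that lies in no block has two non-zero components -/
theorem two_nonzero {t : ℕ} (D : Fin t → Submodule F (Fin n → F)) (ht : 0 < t)
    (c : Fin t → (Fin n → F)) (hc : ∀ i, c i ∈ D i) (h : ∀ l, ∑ i, c i ∉ D l) :
    ∃ i j, i ≠ j ∧ c i ≠ 0 ∧ c j ≠ 0 := by
  classical
  by_contra hcon
  push Not at hcon
  by_cases h0 : ∀ i, c i = 0
  · apply h ⟨0, ht⟩
    rw [Finset.sum_eq_zero (fun i _ => h0 i)]
    exact (D _).zero_mem
  · push Not at h0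
    obtain ⟨i, hi⟩ := h0
    apply h i
    rw [Finset.sum_eq_single i]
    · exact hc i
    · intro j _ hji
      by_contra hj
      exact hj (hcon i j (fun h => hji h.symm) hi)
    · intro hi'
      exact absurd (Finset.mem_univ i) hi'

end Cfsg.Agent.Lib.helper15.UD
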