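import Cfsg.Agent.Lib.Helper28.UMax
import Cfsg.Agent.Lib.Helper28.UHerm
import Cfsg.Agent.Lib.Helper28.DecGen
import Cfsg.Agent.Lib.Helper29.ExtrL.Defs
import Cfsg.Agent.Lib.helper6.HermGram

/-!
# Project UD (statement S5655): the stabiliser of a non-degenerate decomposition in `SU_n(q)`

Definitions.  `F` is the field with `q ^ 2` elements, the form is `Cfsg.hermForm n F q` (`Σ u_i v_i ^ q`), `σ` is the
involution `x ↦ x ^ q`.  See `PLAN.md` in this folder for the paper proof and the list of pieces.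
-/

set_option autoImplicit false

namespace Cfsg.Agent.Lib.helper15.UD

open Matrix

/-- standing context: `|F| = q ^ 2`, `σ x = x ^ q`, and `hermForm n F q` is a unitary form for `σ`
(so every lemma of `Helper28.UForm / UGen / UMax` applies through `hc.form`). -/
structure Ctx (n q : ℕ) (F : Type*) [Field F] [Fintype F] (σ : F ≃+* F) : Prop where
  card : Fintype.card F = q ^ 2
  frob : ∀ x, σ x = x ^ q
  form : Cfsg.Geo.IsUnitaryForm σ (Cfsg.hermForm n F q)

theorem ctx_exists {F : Type*} [Field F] [Fintype F] {q : ℕ} (hF : Fintype.card F = q ^ 2) (n : ℕ) :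
    ∃ σ : F ≃+* F, Ctx n q F σ := by
  obtain ⟨σ, hσ, hf⟩ := Cfsg.Agent.Lib.Helper28.UHerm.herm_unitary hF n
  exact ⟨σ, hF, hσ, hf⟩

/-- `SU_n(q)` inside `GL_n(q ^ 2)` -/
abbrev GS (n : ℕ) (F : Type*) [Field F] (q : ℕ) : Subgroup (Matrix.GeneralLinearGroup (Fin n) F) :=
  Cfsg.GU n F q ⊓ Cfsg.Geo.specialLinear (Fin n) F

/-- the stabiliser of the decomposition in `SU_n(q)` -/
abbrev HD {n t : ℕ} {F : Type*} [Field F] (q : ℕ) (D : Fin t → Submodule F (Fin n → F)) :
    Subgroup (Matrix.GeneralLinearGroup (Fin n) F) :=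
  Cfsg.Geo.decompositionStabilizer D ⊓ GS n F q

/-- the isotropic vectors whose full root group lies in `M` (`Helper28.UMax.XS`) -/
abbrev ZZ {n : ℕ} {F : Type*} [Field F] (q : ℕ) (σ : F ≃+* F)
    (M : Subgroup (Matrix.GeneralLinearGroup (Fin n) F)) : Set (Fin n → F) :=
  Cfsg.Agent.Lib.Helper28.UMax.XS (Cfsg.hermForm n F q) σ M

/-- every isotropic vector of `D i + D j` lies in `ZZ q σ M` -/
def PairGood {n t : ℕ} {F : Type*} [Field F] (q : ℕ) (σ : F ≃+* F)
    (D : Fin t → Submodule F (Fin n → F)) (M : Subgroup (Matrix.GeneralLinearGroup (Fin n) F))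
    (i j : Fin t) : Prop :=
  ∀ a ∈ D i, ∀ b ∈ D j, Cfsg.hermForm n F q (a + b) (a + b) = 0 → a + b ∈ ZZ q σ M

/-- the number of non-zero coordinates -/
def wt {n : ℕ} {F : Type*} [Field F] [DecidableEq F] (x : Fin n → F) : ℕ :=
  (Finset.univ.filter (fun l => x l ≠ 0)).card

end Cfsg.Agent.Lib.helper15.UD
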