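import Cfsg.Agent.Lib.helper15.UD.Defs
import Cfsg.Agent.Lib.helper15.UD.Basic
import Cfsg.Agent.Lib.Helper18.UDEPS
import Cfsg.Agent.Lib.Helper19.UDZETA
import Cfsg.Agent.Lib.Helper21.UDPARAM
import Cfsg.Agent.Lib.Helper27.UDREAL
import Cfsg.Agent.Lib.Helper25.UDISOSUM
import Cfsg.Agent.Lib.Helper20.UDPAIRREFL
import Cfsg.Agent.Lib.helper15.UDMOVE
import Cfsg.Agent.Lib.helper15.UDPERM
import Cfsg.Agent.Lib.Helper22.UDBLOCKXS
import Cfsg.Agent.Lib.Helper20.UDSPREAD
import Cfsg.Agent.Lib.Helper20.UDSHRINK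
import Cfsg.Agent.Lib.Helper13.UDPAIRSA
import Cfsg.Agent.Lib.Helper13.UDPAIRSB
import Cfsg.Agent.Lib.Helper22.UDALLPAIRS
import Cfsg.Agent.Lib.Helper11.UDUNION
import Cfsg.Agent.Lib.Helper24.UDSTRICT
import Cfsg.Agent.Lib.Helper11.UDFRAME

/-! Project UD (S5655): assembly of the pieces (`main_k2`: blocks of dimension `k ≥ 2`; `main_k1`: one-dimensional blocks,
reduced to the standard frame). -/

set_option autoImplicit false

namespace Cfsg.Agent.Lib.helper15.UD

open Matrix Cfsg.Agent.Lib.Helper28 Cfsg.Agent.Lib.Helper29.ExtrL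

variable {n q : ℕ} {F : Type*} [Field F] [Fintype F] {σ : F ≃+* F} {t k : ℕ}

theorem herm_add_orth (hc : Ctx n q F σ) (a b : Fin n → F)
    (hab : Cfsg.hermForm n F q a b = 0) :
    Cfsg.hermForm n F q (a + b) (a + b) = Cfsg.hermForm n F q a a + Cfsg.hermForm n F q b b := by
  have hf := hc.form
  rw [hf.add_left, UForm.f_add_right hf, UForm.f_add_right hf, hab, UForm.f_swap_zero hf hab]
  ring

theorem main_k2 (hc : Ctx n q F σ) (hn : 13 ≤ n) (D : Fin t → Submodule F (Fin n → F))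
    (hD : Cfsg.Geo.IsNondegenerateMDecomposition (Cfsg.hermForm n F q) k D) (hk : 2 ≤ k)
    (hex : ¬ (k = 2 ∧ q = 2)) : Cfsg.Geo.IsMaximalIn (GS n F q) (HD q D) := by
  refine ⟨strict hc (by omega) D hD, ?_⟩
  intro M hHM hMG
  by_cases hMH : M ≤ HD q D
  · left
    exact le_antisymm hMH hHM
  · right
    refine le_antisymm hMG ?_
    obtain ⟨g, hgM, hgH⟩ := SetLike.not_le_iff_exists.mp hMH
    have hgG := hMG hgM
    have hgS : g ∉ Cfsg.Geo.decompositionStabilizer D :=
      fun h => hgH (Subgroup.mem_inf.mpr ⟨h, hgG⟩)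
    have hfr : ∀ i, Module.finrank F (D i) = k := hD.decomp.finrank_eq
    have hsum := fun i x hx => iso_sum hc.form (D i) (hD.nondegenerate i)
      (by rw [hfr]; exact hk) x hx
    have hreal : ∀ i, ∀ c ∈ D i, c ≠ 0 → ∀ s ν : F, σ ν = ν → (k = 2 → s ≠ 0) →
        ∃ x ∈ D i, Cfsg.hermForm n F q x c = s ∧ Cfsg.hermForm n F q x x = ν :=
      fun i c hcD hc0 s ν hν hs => real hc.form (D i) (hD.nondegenerate i)
        (by rw [hfr]; exact hk) c hcD hc0 s ν hν (by rw [hfr]; exact hs)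
    obtain ⟨i₀, v, hvD, hv0, hvc⟩ := spread hc D hD hsum g (Subgroup.mem_inf.mp hgG).1 hgS
    have hblock := fun i v hv hv0 => block_XS (σ := σ) hc D hD M hHM i v hv hv0
    have hwZ : (g : Matrix (Fin n) (Fin n) F) *ᵥ v ∈ ZZ q σ M :=
      UMax.XS_conj M hgM (Subgroup.mem_inf.mp hgG).1 (hblock i₀ v hvD hv0)
    obtain ⟨c, hcD, hcsum⟩ := comp_exists D hD.decomp.iSup_eq_top
      ((g : Matrix (Fin n) (Fin n) F) *ᵥ v)
    have ht : 0 < t := by have := hD.decomp.two_le; omega
    obtain ⟨i, j, hij, hi, hj⟩ := two_nonzero D ht c hcD (by rw [hcsum]; exact hvc)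
    obtain ⟨ε, hε, hε2⟩ := exists_eps hc
    obtain ⟨a, haD, b, hbD, ha0, hab, habZ⟩ := shrink hc D hD M hHM hMG
      (fun i c hcD hc0 s ν hν hs => hreal i c hcD hc0 s ν hν (fun _ => hs)) ε hε hε2
      (fun i j hij a b ha hb ha0 hb0 => pairrefl hc D hD i j hij a b ha hb ha0 hb0 ε hε)
      c hcD (by rw [hcsum]; exact hwZ) i j hij hi hj
    have hA := pairs_a hc D hD M hHM hMG
      (fun i a a' ha ha' hn hn0 => block_move hc D hD hk i a a' ha ha' hn hn0)
      i j hij a b haD hbD ha0 hab habZ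
    obtain ⟨s, s', hs1, hs2, hs3, hs4⟩ := exists_param hc k hex
    have hB := pairs_b hc D hD M hHM hMG hreal s s' hs1 hs2 hs3 hs4 i j hij hA
    have hPG : PairGood q σ D M i j := by
      intro a ha b hb hab
      have horth : Cfsg.hermForm n F q a b = 0 := hD.orthogonal i j hij a ha b hb
      rw [herm_add_orth hc a b horth] at hab
      by_cases ha0 : a = 0
      · rw [ha0, zero_add]
        rw [ha0, UForm.f_zero_left hc.form, zero_add] at hab
        exact hblock j b hb hab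
      by_cases hb0 : b = 0
      · rw [hb0, add_zero]
        rw [hb0, UForm.f_zero_left hc.form, add_zero] at hab
        exact hblock i a ha hab
      by_cases hNa : Cfsg.hermForm n F q a a = 0
      · rw [hNa, zero_add] at hab
        exact hB a ha b hb ha0 hb0 hNa hab
      · exact hA a ha b hb hNa hab
    have hall := all_pairs hc D M hMG (fun c d => by
      obtain ⟨g, hg, h⟩ := perm_elt hc D hD c d
      exact ⟨g, hHM hg, h⟩) i j hij hPG
    have hU := union_step hc D hD M hreal (fun ν hν => exists_zeta hc k hex ν hν) hblock hall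
      Finset.univ
    refine UMax.XS_gen hc.form (Or.inr (by omega)) M (GS n F q) (fun g => by
      rw [Subgroup.mem_inf]
      exact Iff.rfl) (fun y hy => ?_)
    obtain ⟨c, hcD, hcsum⟩ := comp_exists D hD.decomp.iSup_eq_top y
    rw [← hcsum]
    exact hU c hcD (fun l hl => absurd (Finset.mem_univ l) hl) (by rw [hcsum]; exact hy)

theorem conj_mem_GS (P g : Matrix.GeneralLinearGroup (Fin n) F) (hP : P ∈ Cfsg.GU n F q)
    (hg : g ∈ GS n F q) : P * g * P⁻¹ ∈ GS n F q := by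
  obtain ⟨h1, h2⟩ := Subgroup.mem_inf.mp hg
  refine Subgroup.mem_inf.mpr ⟨?_, ?_⟩
  · exact (Cfsg.GU n F q).mul_mem ((Cfsg.GU n F q).mul_mem hP h1) ((Cfsg.GU n F q).inv_mem hP)
  · have hN : (Cfsg.Geo.specialLinear (Fin n) F).Normal := by
      unfold Cfsg.Geo.specialLinear
      infer_instance
    exact hN.conj_mem g h2 P

theorem main_k1 (hc : Ctx n q F σ) (hn : 4 ≤ n) (D : Fin t → Submodule F (Fin n → F))
    (hD : Cfsg.Geo.IsNondegenerateMDecomposition (Cfsg.hermForm n F q) 1 D)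
    (hstd : ∀ M : Subgroup (Matrix.GeneralLinearGroup (Fin n) F),
      (∀ g : Matrix.GeneralLinearGroup (Fin n) F, g ∈ GS n F q →
        IsMono (g : Matrix (Fin n) (Fin n) F) → g ∈ M) → M ≤ GS n F q →
      (∃ g ∈ M, ¬ IsMono ((g : Matrix.GeneralLinearGroup (Fin n) F) : Matrix (Fin n) (Fin n) F)) →
      GS n F q ≤ M) :
    Cfsg.Geo.IsMaximalIn (GS n F q) (HD q D) := by
  refine ⟨strict hc hn D hD, ?_⟩
  intro M hHM hMG
  by_cases hMH : M ≤ HD q D
  · left
    exact le_antisymm hMH hHM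
  · right
    refine le_antisymm hMG ?_
    obtain ⟨g, hgM, hgH⟩ := SetLike.not_le_iff_exists.mp hMH
    have hgG := hMG hgM
    have hgS : g ∉ Cfsg.Geo.decompositionStabilizer D :=
      fun h => hgH (Subgroup.mem_inf.mpr ⟨h, hgG⟩)
    obtain ⟨P, hPU, hP⟩ := frame_transport hc D hD
    have hPU' : P⁻¹ ∈ Cfsg.GU n F q := (Cfsg.GU n F q).inv_mem hPU
    let M' : Subgroup (Matrix.GeneralLinearGroup (Fin n) F) := M.comap (MulAut.conj P).toMonoidHom
    have hM' : ∀ h, h ∈ M' ↔ P * h * P⁻¹ ∈ M := by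
      intro h
      rw [Subgroup.mem_comap]
      rfl
    have key := hstd M' (fun h hh hm => by
      rw [hM']
      apply hHM
      refine Subgroup.mem_inf.mpr ⟨?_, conj_mem_GS P h hPU hh⟩
      rw [hP]
      have : P⁻¹ * (P * h * P⁻¹) * P = h := by group
      rw [this]
      exact hm) (fun h hh => by
      rw [hM'] at hh
      have := conj_mem_GS P⁻¹ _ hPU' (hMG hh)
      have e : P⁻¹ * (P * h * P⁻¹) * P⁻¹⁻¹ = h := by group
      rw [e] at this
      exact this) ⟨P⁻¹ * g * P, by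
        rw [hM']
        have e : P * (P⁻¹ * g * P) * P⁻¹ = g := by group
        rw [e]
        exact hgM, fun hm => hgS ((hP g).2 hm)⟩
    intro x hx
    have h1 : P⁻¹ * x * P ∈ M' := key (by
      have := conj_mem_GS P⁻¹ x hPU' hx
      rwa [inv_inv] at this)
    rw [hM'] at h1
    have e : P * (P⁻¹ * x * P) * P⁻¹ = x := by group
    rw [e] at h1
    exact h1

end Cfsg.Agent.Lib.helper15.UD
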